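import Cfsg.Agent.H509.WeakBlock_m3
import Cfsg.Agent.H648.Loc.Value_m3
import Cfsg.Agent.BpSpor.Act
import Cfsg.Agent.OddOrderLocal.HyperplaneFixed
import Cfsg.Agent.H143.Co3Inv
import Cfsg.Agent.FastGrp
import Cfsg.Agent.Prune
set_option linter.all false
prune_inst 0x7f00000000000000000000000000000000000000000000000000000000000000000000000000000000000000000000000000000000000000000000000000000000000000000000000000000000000000003fffffffffffffffffffffffffffbeffbdffffffff
open scoped Cfsg.Agent.FastGrp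

-- part: H945/Wk/Tools
section
/-!
# S4095 at the prime 2, sporadic rows: tools (helper945)

* `exists_V` : `O_2(C(w)) ≠ 1` as a subgroup `V` of `G`, with an involution `z` central in `V`;
* `dvd_cent_V` : `R` an `r`-group (`r` odd) normalizing the 2-group `V`, `|V| = 2 ^ k`, `r ^ a ∣ |R|`, `r ^ (b + 1)` does not
  divide `|GL_d(2)|` for `d ≤ k`: `r ^ a ∣ r ^ b * |R ∩ C(V)|`;
* `exists_hyper` : `E` elementary abelian of odd exponent normalizing `V ≠ 1`: `E₁ ≤ E` of index at most `r` commutes with an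
  involution of `V`;
* `comm_closure`, `dvd_cent_of_comm` : commutators of `⟨S⟩` and lower bounds for centralizers;
* `FactA.congr`, `factB_of_good`.
-/

set_option autoImplicit false
set_option linter.unusedSectionVars false

namespace Cfsg.Agent.H945.Wk

open Subgroup Cfsg
open Cfsg.Agent.H509.Weak

universe u v

section

variable {G : Type u} [Group G] [Finite G]

theorem mem_cent {x y : G} : y ∈ centralizer ({x} : Set G) ↔ y * x = x * y := by
  rw [mem_centralizer_singleton_iff]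

/-- the centralizers of conjugate elements -/
theorem core_conj {x g : G} (h : pCore 2 ↥(centralizer ({g * x * g⁻¹} : Set G)) = ⊥) :
    pCore 2 ↥(centralizer ({x} : Set G)) = ⊥ :=
  pCore_equiv (centEquiv (MulAut.conj g) x).symm h

theorem exists_V {w : G} (h : pCore 2 ↥(centralizer ({w} : Set G)) ≠ ⊥) :
    ∃ V : Subgroup G, V ≠ ⊥ ∧ IsPGroup 2 ↥V ∧ V ≤ centralizer ({w} : Set G) ∧
      (∀ c ∈ centralizer ({w} : Set G), ∀ v ∈ V, c * v * c⁻¹ ∈ V) ∧
      ∃ z ∈ V, orderOf z = 2 ∧ ∀ v ∈ V, v * z = z * v := by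
  have hp : Fact (Nat.Prime 2) := ⟨Nat.prime_two⟩
  set P : Subgroup ↥(centralizer ({w} : Set G)) := pCore 2 ↥(centralizer ({w} : Set G)) with hP
  have hPn : P.Normal := Lib.Cores.pCore_normal 2
  have hPp : IsPGroup 2 ↥P := Lib.Cores.pCore_isPGroup 2
  have hnt : Nontrivial ↥P := (Subgroup.nontrivial_iff_ne_bot P).2 h
  have hcen : Nontrivial (center ↥P) := hPp.center_nontrivial
  have hcp : IsPGroup 2 (center ↥P) := hPp.to_subgroup _
  obtain ⟨z, hz⟩ : ∃ z : center ↥P, orderOf z = 2 := by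
    apply exists_prime_orderOf_dvd_card' 2
    obtain ⟨n, hn⟩ := hcp.exists_card_eq
    rw [hn]
    apply dvd_pow_self
    rintro rfl
    rw [pow_zero] at hn
    have := Finite.one_lt_card_iff_nontrivial.2 hcen
    omega
  refine ⟨P.map (centralizer ({w} : Set G)).subtype, ?_, hPp.map _, ?_, ?_, ?_⟩
  · rw [Ne, map_eq_bot_iff_of_injective _ (subtype_injective _)]
    exact h
  · rintro _ ⟨a, -, rfl⟩
    exact a.2
  · rintro c hc _ ⟨a, ha, rfl⟩
    exact ⟨⟨c, hc⟩ * a * ⟨c, hc⟩⁻¹, hPn.conj_mem a ha ⟨c, hc⟩, rfl⟩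
  · refine ⟨((z : ↥P) : ↥(centralizer ({w} : Set G))), ⟨_, (z : ↥P).2, rfl⟩, ?_, ?_⟩
    · rw [Subgroup.orderOf_coe, Subgroup.orderOf_coe, Subgroup.orderOf_coe, hz]
    · rintro _ ⟨a, ha, rfl⟩
      have h1 := mem_center_iff.1 z.2 ⟨a, ha⟩
      have h2 := congrArg (fun t : ↥P => ((t : ↥(centralizer ({w} : Set G))) : G)) h1
      exact h2

theorem dvd_cent_V {V R : Subgroup G} (hV : IsPGroup 2 ↥V) {k : ℕ} (hk : Nat.card ↥V = 2 ^ k) {r : ℕ} (hr : r.Prime)
    (hr2 : r ≠ 2) (hR : IsPGroup r ↥R) (hRV : ∀ c ∈ R, ∀ v ∈ V, c * v * c⁻¹ ∈ V) {a b : ℕ} (ha : r ^ a ∣ Nat.card ↥R)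
    (hb : ∀ d ≤ k, ¬ r ^ (b + 1) ∣ ∏ i : Fin d, (2 ^ d - 2 ^ (i : ℕ))) :
    r ^ a ∣ r ^ b * Nat.card ↥(R ⊓ centralizer (V : Set G)) := by
  have hp : Fact (Nat.Prime 2) := ⟨Nat.prime_two⟩
  have hrf : Fact r.Prime := ⟨hr⟩
  have hRN : R ≤ normalizer (V : Set G) := fun c hc => mem_normalizer_fintype fun v hv => hRV c hc v hv
  let φ : ↥R →* MulAut ↥V := (normalizerMonoidHom V).comp (inclusion hRN)
  have hφ : ∀ (c : ↥R) (v : ↥V), ((φ c v : ↥V) : G) = c * v * (c : G)⁻¹ := fun c v => rfl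
  have hker : Nat.card ↥φ.ker = Nat.card ↥(R ⊓ centralizer (V : Set G)) := by
    have h1 : φ.ker.map R.subtype = R ⊓ centralizer (V : Set G) := by
      ext g
      constructor
      · rintro ⟨c, hc, rfl⟩
        refine ⟨c.2, mem_centralizer_iff.2 fun v hv => ?_⟩
        have h2 := hφ c ⟨v, hv⟩
        have h3 : φ c = 1 := hc
        rw [h3] at h2
        have h4 : v = c * v * (c : G)⁻¹ := h2
        have h5 : v * (c : G) = c * v := by
          nth_rewrite 1 [h4]
          rw [inv_mul_cancel_right]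
        exact h5
      · rintro ⟨h1, h2⟩
        refine ⟨⟨g, h1⟩, ?_, rfl⟩
        rw [SetLike.mem_coe, MonoidHom.mem_ker]
        ext v
        rw [hφ]
        have h3 := mem_centralizer_iff.1 h2 v v.2
        change g * (v : G) * g⁻¹ = v
        rw [← h3, mul_inv_cancel_right]
    rw [← h1, card_map_of_injective R.subtype_injective]
  obtain ⟨d, M, hd, -, hM⟩ := BpSpor.card_mulAut_dvd hV hk
  have h1 : Nat.card ↥R = Nat.card ↥φ.ker * Nat.card ↥φ.range := by
    rw [← index_ker, card_mul_index]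
  have h2 : IsPGroup r ↥φ.range := hR.of_surjective φ.rangeRestrict φ.rangeRestrict_surjective
  obtain ⟨n, hn⟩ := h2.exists_card_eq
  have h3 : r ^ n ∣ 2 ^ M * ∏ i : Fin d, (2 ^ d - 2 ^ (i : ℕ)) := by
    rw [← hn]
    exact (card_subgroup_dvd_card _).trans hM
  have h4 : (r ^ n).Coprime (2 ^ M) := Nat.Coprime.pow _ _ ((Nat.coprime_primes hr Nat.prime_two).2 hr2)
  have h5 := h4.dvd_of_dvd_mul_left h3
  have h6 : n ≤ b := by
    by_contra hcon
    exact hb d hd ((pow_dvd_pow r (by omega)).trans h5)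
  rw [← hker, mul_comm]
  rw [h1, hn] at ha
  exact ha.trans (mul_dvd_mul_left _ (pow_dvd_pow r h6))

theorem exists_hyper {V E : Subgroup G} (hV : IsPGroup 2 ↥V) (hV1 : V ≠ ⊥) {r : ℕ} (hr : r.Prime) (hr2 : r ≠ 2)
    (hE : Cfsg.IsElementaryAbelian r E) (hEV : ∀ c ∈ E, ∀ v ∈ V, c * v * c⁻¹ ∈ V) :
    ∃ E₁ : Subgroup G, E₁ ≤ E ∧ Nat.card ↥E ≤ r * Nat.card ↥E₁ ∧ ∃ t ∈ V, orderOf t = 2 ∧
      E₁ ≤ centralizer ({t} : Set G) := by
  have hp : Fact (Nat.Prime 2) := ⟨Nat.prime_two⟩
  obtain ⟨E₁, h1, h2, h3⟩ := OddOrderLocal.HyperplaneFixed.exists_relIndex_le hr Nat.prime_two hr2 E V hE hV hV1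
    (fun c hc => mem_normalizer_fintype fun v hv => hEV c hc v hv)
  refine ⟨E₁, h1, ?_, ?_⟩
  · have h4 := (E₁.subgroupOf E).card_mul_index
    rw [Nat.card_congr (subgroupOfEquivOfLe h1).toEquiv, mul_comm] at h4
    rw [← h4]
    exact Nat.mul_le_mul_right _ h2
  · have h4 : IsPGroup 2 ↥(V ⊓ centralizer (E₁ : Set G)) := hV.to_le inf_le_left
    have h5 := (Subgroup.nontrivial_iff_ne_bot _).2 h3
    obtain ⟨t, ht⟩ : ∃ t : ↥(V ⊓ centralizer (E₁ : Set G)), orderOf t = 2 := by
      apply exists_prime_orderOf_dvd_card' 2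
      obtain ⟨n, hn⟩ := h4.exists_card_eq
      rw [hn]
      apply dvd_pow_self
      rintro rfl
      rw [pow_zero] at hn
      have := Finite.one_lt_card_iff_nontrivial.2 h5
      omega
    refine ⟨t, t.2.1, by rw [Subgroup.orderOf_coe, ht], fun e he => ?_⟩
    rw [mem_cent]
    exact mem_centralizer_iff.1 t.2.2 e he

/-- the commutators of `⟨S⟩` -/
theorem comm_closure {S : Set G} {D : Subgroup G} (hn : ∀ s ∈ S, ∀ d ∈ D, s * d * s⁻¹ ∈ D)
    (hc : ∀ s ∈ S, ∀ t ∈ S, s * t * s⁻¹ * t⁻¹ ∈ D) :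
    ∀ g ∈ _root_.Subgroup.closure S, ∀ h ∈ closure S, g * h * g⁻¹ * h⁻¹ ∈ D := by
  have hN : closure S ≤ normalizer (D : Set G) := by
    rw [closure_le]
    intro s hs
    exact mem_normalizer_fintype fun d hd => hn s hs d hd
  have hconj : ∀ g ∈ closure S, ∀ d ∈ D, g * d * g⁻¹ ∈ D := fun g hg d hd => (mem_normalizer_iff.1 (hN hg) d).1 hd
  -- one letter
  have h1 : ∀ s ∈ S, ∀ h ∈ closure S, s * h * s⁻¹ * h⁻¹ ∈ D := by
    intro s hs h hh
    induction hh using closure_induction with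
    | mem t ht => exact hc s hs t ht
    | one => simp [one_mem]
    | mul a b ha hb iha ihb =>
      have e : s * (a * b) * s⁻¹ * (a * b)⁻¹ = (s * a * s⁻¹ * a⁻¹) * (a * (s * b * s⁻¹ * b⁻¹) * a⁻¹) := by group
      rw [e]
      exact mul_mem iha (hconj a ha _ ihb)
    | inv a ha iha =>
      have e : s * a⁻¹ * s⁻¹ * a⁻¹⁻¹ = a⁻¹ * (s * a * s⁻¹ * a⁻¹)⁻¹ * (a⁻¹)⁻¹ := by group
      rw [e]
      exact hconj _ (inv_mem ha) _ (inv_mem iha)
  intro g hg
  induction hg using closure_induction with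
  | mem s hs => exact h1 s hs
  | one => intro h hh; simp [one_mem]
  | mul a b ha hb iha ihb =>
    intro h hh
    have e : a * b * h * (a * b)⁻¹ * h⁻¹ = (a * (b * h * b⁻¹ * h⁻¹) * a⁻¹) * (a * h * a⁻¹ * h⁻¹) := by group
    rw [e]
    exact mul_mem (hconj a ha _ (ihb h hh)) (iha h hh)
  | inv a ha iha =>
    intro h hh
    have e : a⁻¹ * h * a⁻¹⁻¹ * h⁻¹ = a⁻¹ * (a * h * a⁻¹ * h⁻¹)⁻¹ * (a⁻¹)⁻¹ := by group
    rw [e]
    exact hconj _ (inv_mem ha) _ (inv_mem (iha h hh))

/-- `|P| ≤ |D| |C_P(w)|` -/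
theorem card_le_of_comm {P D : Subgroup G} (h : ∀ g ∈ P, ∀ h ∈ P, g * h * g⁻¹ * h⁻¹ ∈ D) {w : G} (hw : w ∈ P) :
    Nat.card ↥P ≤ Nat.card ↥D * Nat.card ↥(P ⊓ centralizer ({w} : Set G)) := by
  set C : Subgroup ↥P := (centralizer ({w} : Set G)).subgroupOf P with hC
  let f : ↥P ⧸ C → ↥D := fun q => ⟨q.out * w * (q.out : G)⁻¹ * w⁻¹, h _ q.out.2 _ hw⟩
  have hf : Function.Injective f := by
    intro a b hab
    have h1 : (a.out : G) * w * (a.out : G)⁻¹ * w⁻¹ = (b.out : G) * w * (b.out : G)⁻¹ * w⁻¹ := congrArg Subtype.val hab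
    have h2 : (a.out : G) * w * (a.out : G)⁻¹ = (b.out : G) * w * (b.out : G)⁻¹ := mul_right_cancel h1
    rw [← QuotientGroup.out_eq' a, ← QuotientGroup.out_eq' b, QuotientGroup.eq]
    change (a.out : G)⁻¹ * (b.out : G) ∈ centralizer ({w} : Set G)
    rw [mem_cent]
    have h3 : (b.out : G) * w = (a.out : G) * w * (a.out : G)⁻¹ * (b.out : G) := by
      rw [h2, inv_mul_cancel_right]
    calc (a.out : G)⁻¹ * (b.out : G) * w = (a.out : G)⁻¹ * ((b.out : G) * w) := by group
      _ = w * ((a.out : G)⁻¹ * (b.out : G)) := by rw [h3]; group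
  have h1 : C.index ≤ Nat.card ↥D := by
    rw [index]
    exact Nat.card_le_card_of_injective f hf
  have h2 : Nat.card ↥C = Nat.card ↥(P ⊓ centralizer ({w} : Set G)) := by
    rw [inf_comm]
    exact Nat.card_congr (subgroupOfEquivOfLe (inf_le_right : centralizer ({w} : Set G) ⊓ P ≤ P)).toEquiv |> fun h => by
      rw [← h, inf_subgroupOf_right]
  rw [← h2, ← C.card_mul_index, mul_comm]
  exact Nat.mul_le_mul_right _ h1

end

/-- transport -/
theorem FactA.congr {A : Type u} {B : Type v} [Group A] [Group B] (e : A ≃* B) (h : FactA A) : FactA B := by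
  obtain ⟨Q, hQ, hall⟩ := h
  have key : ∀ x : B, ∃ f : ↥(centralizer ({e.symm x} : Set A)) ≃* ↥(centralizer ({x} : Set B)), True := by
    intro x
    refine ⟨(e.subgroupMap (centralizer ({e.symm x} : Set A))).trans (MulEquiv.subgroupCongr ?_), trivial⟩
    ext g
    rw [mem_centralizer_singleton_iff]
    constructor
    · rintro ⟨s, hs, rfl⟩
      have h1 := mem_centralizer_singleton_iff.1 hs
      have h2 := congrArg e h1
      rw [map_mul, map_mul, e.apply_symm_apply] at h2
      exact h2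
    · intro h
      refine ⟨e.symm g, ?_, e.apply_symm_apply g⟩
      rw [SetLike.mem_coe, mem_centralizer_singleton_iff]
      apply e.injective
      rw [map_mul, map_mul, e.apply_symm_apply, e.apply_symm_apply]
      exact h
  refine ⟨Q.map e.toMonoidHom, ?_, fun w hw hw2 => ?_⟩
  · rw [card_map_of_injective e.injective]
    exact hQ
  · obtain ⟨f, -⟩ := key w
    have ho : orderOf (e.symm w) = orderOf w := e.symm.orderOf_eq w
    rcases hall (e.symm w) (by rw [ho]; exact hw) (by rw [ho]; exact hw2) with h1 | h1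
    · exact Or.inl (pCore_equiv f h1)
    · right
      rw [card_map_of_injective e.injective, ← Nat.card_congr f.toEquiv]
      exact h1

/-- transport of `O_2(C(x)) = 1` for the elements of a given order -/
theorem core_congr {A : Type u} {B : Type v} [Group A] [Group B] (e : A ≃* B) {r : ℕ}
    (h : ∀ x : A, orderOf x = r → pCore 2 ↥(centralizer ({x} : Set A)) = ⊥) :
    ∀ x : B, orderOf x = r → pCore 2 ↥(centralizer ({x} : Set B)) = ⊥ := by
  intro x hx
  have f : ↥(centralizer ({e.symm x} : Set A)) ≃* ↥(centralizer ({x} : Set B)) := by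
    refine (e.subgroupMap (centralizer ({e.symm x} : Set A))).trans (MulEquiv.subgroupCongr ?_)
    ext g
    rw [mem_centralizer_singleton_iff]
    constructor
    · rintro ⟨s, hs, rfl⟩
      have h1 := mem_centralizer_singleton_iff.1 hs
      have h2 := congrArg e h1
      rw [map_mul, map_mul, e.apply_symm_apply] at h2
      exact h2
    · intro h
      refine ⟨e.symm g, ?_, e.apply_symm_apply g⟩
      rw [SetLike.mem_coe, mem_centralizer_singleton_iff]
      apply e.injective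
      rw [map_mul, map_mul, e.apply_symm_apply, e.apply_symm_apply]
      exact h
  exact pCore_equiv f (h _ (by rw [MulEquiv.orderOf_eq, hx]))

open Cfsg.Agent.Blocks.LocalRing Cfsg.Agent.Blocks Cfsg.Agent.H652.Four in
/-- **`FactB` from a good element** (`H287.Blk.Good`) when all the elements of its order satisfy `O_2(C(y)) = 1`. -/
theorem factB_of_good {L : Type u} [Group L] {r : ℕ} {x : L} (hr : r ≠ 1) (hx : orderOf x = r)
    (h : H287.Blk.Good r x) (hO : ∀ y : L, orderOf y = r → pCore 2 ↥(centralizer ({y} : Set L)) = ⊥) : FactB L := by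
  refine ⟨{y | orderOf y = r}, ?_, ?_, ?_⟩
  · intro β y hy
    change orderOf (β y) = r
    rw [MulEquiv.orderOf_eq]
    exact hy
  · intro y hy
    refine ⟨?_, hO y hy⟩
    rintro rfl
    have h1 : orderOf (1 : L) = r := hy
    rw [orderOf_one] at h1
    exact hr h1.symm
  · intro M hM
    refine h M hM _ ⟨?_, ?_, ?_, ?_⟩
    · intro g y
      have h1 : orderOf (g * y * g⁻¹) = orderOf y := MulEquiv.orderOf_eq (MulAut.conj g) y
      by_cases h2 : orderOf y = r
      · rw [ind_pos (show y ∈ {y : L | orderOf y = r} from h2),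
          ind_pos (show g * y * g⁻¹ ∈ {y : L | orderOf y = r} from h1.trans h2)]
      · rw [ind_neg (show y ∉ {y : L | orderOf y = r} from h2),
          ind_neg (show g * y * g⁻¹ ∉ {y : L | orderOf y = r} from fun h3 => h2 (h1.symm.trans h3))]
    · intro g
      by_cases h2 : orderOf g = r
      · rw [ind_pos (show g ∈ {y : L | orderOf y = r} from h2)]
        have := memLocalRing_natCast hM 1
        simpa using this
      · rw [ind_neg (show g ∉ {y : L | orderOf y = r} from h2)]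
        have := memLocalRing_natCast hM 0
        simpa using this
    · intro g hg
      by_contra h2
      exact hg (ind_neg (show g ∉ {y : L | orderOf y = r} from h2))
    · rw [ind_pos (show x ∈ {y : L | orderOf y = r} from hx)]
      intro h1
      have h2 : MemLocalIdeal M ((1 : ℕ) : ℂ) := by simpa using h1
      rw [memLocalIdeal_natCast_iff hM] at h2
      omega

end Cfsg.Agent.H945.Wk
end

-- part: H945/Wk/Co3Syl
section
/-!
# `Co₃` : `81` divides the order of the centralizer of every element of order three (helper945)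

The Sylow 3-subgroup `P` of `Cfsg.Agent.H526.Co3Three` has order `3 ^ 7` and the commutators of its elements lie in a subgroup
`D` of order at most 27.
-/

set_option autoImplicit false

namespace Cfsg.Agent.H945.Wk.Co3Syl

open Subgroup Cfsg Cfsg.Agent.SporRec.LeechChain Cfsg.Agent.SporRec.Co3.MatData Cfsg.Agent.SporRec.Co3.ChainData
  Cfsg.Agent.SporRec.Co3.Chain Cfsg.Agent.H526.PcNf Cfsg.Agent.H526.Co3Data Cfsg.Agent.H526.Co3Three

/-- the words of the generators of `D` -/
def Dl : ℕ → List ℕ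
  | 0 => [10, 12, 12]
  | 1 => [11, 12, 13]
  | _ => [14]

/-- words -/
def Dw (l : List ℕ) : List ℕ := l.flatMap Dl

/-- conjugation -/
def cT : ℕ → ℕ → List ℕ
  | 0, 1 => [1, 2]
  | 1, 0 => [0, 2]
  | 1, 1 => [1, 2, 2]
  | _, j => [j]

/-- commutators -/
def mT : ℕ → ℕ → List ℕ
  | 0, 1 => [2, 2]
  | 0, 2 => [0, 1, 1, 2, 2]
  | 0, 3 => [0, 1, 2]
  | 0, 4 => [0, 1, 1, 2, 2]
  | 0, 5 => [0, 2]
  | 1, 2 => [0, 0, 1, 1, 2, 2]
  | 1, 3 => [0, 2]
  | 1, 4 => [0, 0, 1, 1, 2]
  | 1, 5 => [1]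
  | _, _ => []

theorem conj_all : ((List.range 7).all fun i => (List.range 3).all fun j =>
    chk ([8 + i] ++ Dw [j]) (Dw (cT i j) ++ [8 + i])) = true := by decide +kernel

theorem comm_all : ((List.range 7).all fun i => (List.range 7).all fun j =>
    !(Nat.blt i j) || chk [8 + i, 8 + j] (Dw (mT i j) ++ [8 + j, 8 + i])) = true := by decide +kernel

theorem cube_all : ((List.range 3).all fun j => chk (Dw [j, j, j]) []) = true := by decide +kernel

theorem ab_all : ((List.range 3).all fun i => (List.range 3).all fun j => chk (Dw [i, j]) (Dw [j, i])) = true := by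
  decide +kernel

theorem cT_lt : ∀ i < 7, ∀ j < 3, ∀ k ∈ cT i j, k < 3 := by decide
theorem mT_lt : ∀ i < 7, ∀ j < 7, ∀ k ∈ mT i j, k < 3 := by decide

/-- the generators of `D` -/
noncomputable def d (j : ℕ) : G3 := ((Dl j).map L).prod

theorem prod_Dw (l : List ℕ) : ((Dw l).map L).prod = (l.map d).prod := by
  induction l with
  | nil => rfl
  | cons a l ih =>
    rw [show Dw (a :: l) = Dl a ++ Dw l from rfl, List.map_append, List.prod_append, ih, List.map_cons, List.prod_cons]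
    rfl

/-- the subgroup `D` -/
noncomputable def D : Subgroup G3 := _root_.Subgroup.closure (Sk 3 d 0)

theorem d_mem {j : ℕ} (h : j < 3) : d j ∈ D := subset_closure ⟨j, Nat.zero_le _, h, rfl⟩

theorem prod_mem_D {l : List ℕ} (h : ∀ k ∈ l, k < 3) : (l.map d).prod ∈ D := by
  apply Subgroup.list_prod_mem
  intro y hy
  obtain ⟨k, hk, rfl⟩ := List.mem_map.1 hy
  exact d_mem (h k hk)

theorem pcd : Pc 3 3 d where
  pow i hi := by
    have h := eq_of_chk (List.all_eq_true.1 cube_all i (List.mem_range.2 hi))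
    rw [prod_Dw] at h
    simpa only [pow_succ, mul_assoc, _root_.pow_zero, _root_.one_mul, _root_.List.map_cons, _root_.List.map_nil, _root_.List.prod_cons, _root_.List.prod_nil, _root_.mul_one] using h
  rel i j hij hj := by
    have h := eq_of_chk (List.all_eq_true.1 (List.all_eq_true.1 ab_all i (List.mem_range.2 (by omega))) j
      (List.mem_range.2 hj))
    rw [prod_Dw, prod_Dw] at h
    have h1 : d i * d j = d j * d i := by simpa only [_root_.List.map_cons, _root_.List.map_nil, _root_.List.prod_cons, _root_.List.prod_nil, _root_.mul_one] using h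
    rw [h1, mul_inv_cancel_right]
    exact subset_closure ⟨j, by omega, hj, rfl⟩

instance finG3 : Finite G3 := H143.Co3Inv.finG3

theorem card_D : Nat.card ↥D ≤ 27 := by
  classical
  have hs : Function.Surjective (fun N : Fin 27 => if h : ((nfw 3 3 0 N).map d).prod ∈ D then (⟨_, h⟩ : ↥D) else 1) := by
    rintro ⟨x, hx⟩
    obtain ⟨N, hN, rfl⟩ := pcd.exists_nf' (by norm_num) hx
    exact ⟨⟨N, hN⟩, by simp only [dif_pos hx]⟩
  have h := Nat.card_le_card_of_surjective _ hs
  have h27 : Nat.card (Fin 27) = 27 := by rw [Nat.card_eq_fintype_card, Fintype.card_fin]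
  rwa [h27] at h

theorem conj_D {i : ℕ} (hi : i < 7) : ∀ x ∈ D, p i * x * (p i)⁻¹ ∈ D := by
  have hle : D ≤ D.comap (MulAut.conj (p i)).toMonoidHom := by
    unfold D
    rw [closure_le]
    rintro _ ⟨j, -, hj, rfl⟩
    have h := eq_of_chk (List.all_eq_true.1 (List.all_eq_true.1 conj_all i (List.mem_range.2 hi)) j (List.mem_range.2 hj))
    rw [List.map_append, List.prod_append, List.map_append, List.prod_append, prod_Dw, prod_Dw] at h
    have h1 : p i * d j = ((cT i j).map d).prod * p i := by simpa only [p, _root_.List.map_cons, _root_.List.map_nil, _root_.List.prod_cons, _root_.List.prod_nil, _root_.mul_one] using h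
    change p i * d j * (p i)⁻¹ ∈ D
    rw [h1, mul_inv_cancel_right]
    exact prod_mem_D (cT_lt i hi j hj)
  exact fun x hx => hle hx

theorem comm_lt {i j : ℕ} (hij : i < j) (hj : j < 7) : p i * p j * (p i)⁻¹ * (p j)⁻¹ ∈ D := by
  have h := List.all_eq_true.1 (List.all_eq_true.1 comm_all i (List.mem_range.2 (by omega))) j (List.mem_range.2 hj)
  rw [Bool.or_eq_true] at h
  rcases h with h | h
  · rw [Bool.not_eq_true', ← Bool.not_eq_true, Nat.blt_eq] at h
    exact absurd hij h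
  · have h1 := eq_of_chk h
    rw [List.map_append, List.prod_append, prod_Dw] at h1
    have h2 : p i * p j = ((mT i j).map d).prod * (p j * p i) := by simpa only [p, _root_.List.map_cons, _root_.List.map_nil, _root_.List.prod_cons, _root_.List.prod_nil, _root_.mul_one] using h1
    rw [h2]
    have e : ((mT i j).map d).prod * (p j * p i) * (p i)⁻¹ * (p j)⁻¹ = ((mT i j).map d).prod := by group
    rw [e]
    exact prod_mem_D (mT_lt i (by omega) j hj)

theorem comm_gen : ∀ s ∈ Sk 7 p 0, ∀ t ∈ Sk 7 p 0, s * t * s⁻¹ * t⁻¹ ∈ D := by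
  rintro _ ⟨i, -, hi, rfl⟩ _ ⟨j, -, hj, rfl⟩
  rcases Nat.lt_trichotomy i j with h | rfl | h
  · exact comm_lt h hj
  · have e : p i * p i * (p i)⁻¹ * (p i)⁻¹ = 1 := by group
    rw [e]
    exact one_mem _
  · have h1 := inv_mem (comm_lt h hi)
    have e : (p j * p i * (p j)⁻¹ * (p i)⁻¹)⁻¹ = p i * p j * (p i)⁻¹ * (p j)⁻¹ := by group
    rwa [e] at h1

/-- **`81` divides the order of the centralizer of every element of order three.** -/
theorem three_dvd {w : G3} (hw : w ^ 3 = 1) : ∃ R : Subgroup G3, IsPGroup 3 ↥R ∧ 3 ^ 4 ∣ Nat.card ↥R ∧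
    R ≤ centralizer ({w} : Set G3) := by
  have h3 : Fact (Nat.Prime 3) := ⟨Nat.prime_three⟩
  obtain ⟨S, hS⟩ := H143.Co3Inv.exists_sylow
  have hz : IsPGroup 3 (zpowers w) := by
    intro y
    obtain ⟨k, hk⟩ := mem_zpowers_iff.1 y.2
    refine ⟨1, Subtype.ext ?_⟩
    have : (w ^ k) ^ 3 = 1 := by rw [← zpow_natCast, ← zpow_mul, mul_comm, zpow_mul, zpow_natCast, hw, one_zpow]
    simpa only [← hk, _root_.pow_one, _root_.SubmonoidClass.coe_pow, _root_.OneMemClass.coe_one] using this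
  obtain ⟨R, hR⟩ := hz.exists_le_sylow
  obtain ⟨g, hg⟩ := MulAction.exists_smul_eq G3 R S
  have hx : g * w * g⁻¹ ∈ (S : Subgroup G3) := by
    rw [← hg]
    exact ⟨w, hR (mem_zpowers w), rfl⟩
  rw [hS] at hx
  have h1 := card_le_of_comm (comm_closure (S := Sk 7 p 0) (D := D)
    (by rintro _ ⟨i, -, hi, rfl⟩; exact conj_D hi) comm_gen) hx
  have h2 := hlow
  have h4 := card_D
  set T : Subgroup G3 := _root_.Subgroup.closure (Sk 7 p 0) ⊓ centralizer ({g * w * g⁻¹} : Set G3) with hT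
  have hTp : IsPGroup 3 ↥T := (pc.isPGroup 7 0 (by norm_num)).to_le inf_le_left
  have h5 : 3 ^ 4 ∣ Nat.card ↥T := by
    obtain ⟨n, hn⟩ := hTp.exists_card_eq
    rw [hn] at h1 ⊢
    apply pow_dvd_pow
    by_contra hcon
    have h6 : 3 ^ n ≤ 3 ^ 3 := Nat.pow_le_pow_right (by norm_num) (by omega)
    have h7 := h1.trans (Nat.mul_le_mul h4 h6)
    omega
  refine ⟨T.map (MulAut.conj g⁻¹).toMonoidHom, hTp.map _, ?_, ?_⟩
  · rwa [card_map_of_injective (MulAut.conj g⁻¹).injective]
  · rintro _ ⟨t, ht, rfl⟩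
    have h6 := mem_cent.1 ht.2
    rw [mem_cent]
    change g⁻¹ * t * g⁻¹⁻¹ * w = w * (g⁻¹ * t * g⁻¹⁻¹)
    calc g⁻¹ * t * g⁻¹⁻¹ * w = g⁻¹ * (t * (g * w * g⁻¹)) * g := by group
      _ = w * (g⁻¹ * t * g⁻¹⁻¹) := by rw [h6]; group

end Cfsg.Agent.H945.Wk.Co3Syl
end
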